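import Mathlib

/-!
Generic finiteness of the critical locus of a linear combination of generators on a smooth
affine algebra over a field, and a smoothness criterion for a function to the multiplicative line.
-/

set_option autoImplicit false

universe u

open scoped TensorProduct

namespace UnitSmoothLib

/-- `m + 1` algebraically independent elements cannot all be algebraic over `m` elements. -/
theorem not_algIndep_option {k K : Type u} [Field k] [Field K] [Algebra k K] {n : ℕ}
    (x : Option (Fin n) → K) (hx : AlgebraicIndependent k x) (s : Fin n → K)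
    (h : ∀ i, IsAlgebraic (IntermediateField.adjoin k (Set.range s)) (x i)) : False := by
  have hsub : Set.range x ⊆ (AlgebraicIndependent.matroid k K).closure (Set.range s) := by
    rintro _ ⟨i, rfl⟩
    rw [AlgebraicIndependent.matroid_closure_eq]
    exact IntermediateField.isAlgebraic_adjoin_iff.mp (h i)
  have hind : (AlgebraicIndependent.matroid k K).Indep (Set.range x) :=
    AlgebraicIndependent.matroid_indep_iff.mpr ((algebraicIndependent_subtype_range hx.injective).mpr hx)
  have h1 := hind.encard_le_eRk_of_subset hsub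
  rw [Matroid.eRk_closure_eq] at h1
  have h2 := h1.trans (Matroid.eRk_le_encard _ _)
  have h3 : (Set.range s).encard ≤ (n : ℕ∞) := by
    have := Set.encard_image_le s (Set.univ : Set (Fin n))
    simpa [Set.image_univ, Set.encard_univ] using this
  have h4 : (Set.range x).encard = ((n + 1 : ℕ) : ℕ∞) := by
    rw [← Set.image_univ, hx.injective.encard_image, Set.encard_univ]
    simp
  rw [h4] at h2
  have h5 := h2.trans h3
  norm_cast at h5
  omega

variable {k B : Type u} [Field k] [CommRing B] [Algebra k B]

/-- A finitely generated field generated by the image of `B` is algebraic over the field generated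
by a set of generators whose differentials span all the others modulo coordinates. -/
theorem isAlgebraic_of_coord_span {n m : ℕ} (t : Fin n → B)
    (hspan : Submodule.span B (Set.range fun l => KaehlerDifferential.D k B (t l)) = ⊤)
    (lam : Fin m → (Ω[B⁄k] →ₗ[B] B)) (e : Fin m → Ω[B⁄k]) (he : ∀ ω, ω = ∑ s, lam s ω • e s)
    {F : Type u} [Field F] [Algebra k F] [Algebra B F] [IsScalarTower k B F]
    [Algebra.EssFiniteType k F]
    (hgen : IntermediateField.adjoin k (Set.range (algebraMap B F)) = ⊤) (I : Set (Fin n))
    (hI : ∀ l, (fun s => algebraMap B F (lam s (KaehlerDifferential.D k B (t l)))) ∈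
      Submodule.span F ((fun l s => algebraMap B F (lam s (KaehlerDifferential.D k B (t l)))) '' I)) :
    Algebra.IsAlgebraic (IntermediateField.adjoin k ((fun l => algebraMap B F (t l)) '' I)) F := by
  let L0 := IntermediateField.adjoin k ((fun l => algebraMap B F (t l)) '' I)
  have : Algebra.EssFiniteType L0 F := Algebra.EssFiniteType.of_comp k L0 F
  let μ : Ω[B⁄k] →ₗ[B] Ω[F⁄L0] := KaehlerDifferential.map k L0 B F
  have hμ : ∀ b, μ (KaehlerDifferential.D k B b) = KaehlerDifferential.D L0 F (algebraMap B F b) :=
    fun b => KaehlerDifferential.map_D k L0 B F b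
  let θ : (Fin m → F) →ₗ[F] Ω[F⁄L0] := Fintype.linearCombination F fun s => μ (e s)
  have hθ : ∀ ω, μ ω = θ (fun s => algebraMap B F (lam s ω)) := by
    intro ω
    conv_lhs => rw [he ω]
    rw [map_sum, Fintype.linearCombination_apply]
    refine Finset.sum_congr rfl fun s _ => ?_
    rw [map_smul, algebraMap_smul]
  have hle : Submodule.span F ((fun l s => algebraMap B F (lam s (KaehlerDifferential.D k B (t l)))) '' I) ≤
      LinearMap.ker θ := by
    rw [Submodule.span_le]
    rintro _ ⟨i, hi, rfl⟩
    change θ (fun s => algebraMap B F (lam s (KaehlerDifferential.D k B (t i)))) = 0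
    rw [← hθ, hμ]
    exact Derivation.map_algebraMap (KaehlerDifferential.D L0 F)
      ⟨algebraMap B F (t i), IntermediateField.subset_adjoin _ _ ⟨i, hi, rfl⟩⟩
  have hμ0 : μ = 0 := by
    refine LinearMap.ext_on_range hspan fun l => ?_
    rw [hθ]
    exact hle (hI l)
  have hD : ∀ y : F, KaehlerDifferential.D L0 F y = 0 := by
    intro y
    have hy : y ∈ IntermediateField.adjoin k (Set.range (algebraMap B F)) := by
      rw [hgen]; trivial
    induction hy using IntermediateField.adjoin_induction with
    | mem z hz => obtain ⟨b, rfl⟩ := hz; rw [← hμ, hμ0, LinearMap.zero_apply]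
    | algebraMap r =>
      rw [IsScalarTower.algebraMap_apply k L0 F, Derivation.map_algebraMap]
    | add y z _ _ ihy ihz => rw [map_add, ihy, ihz, add_zero]
    | mul y z _ _ ihy ihz => rw [Derivation.leibniz, ihy, ihz, smul_zero, smul_zero, add_zero]
    | inv y _ ihy => rw [Derivation.leibniz_inv, ihy, smul_zero]
  have hsub : Subsingleton Ω[F⁄L0] := by
    refine subsingleton_of_forall_eq 0 fun z => ?_
    have hz : z ∈ Submodule.span F (Set.range (KaehlerDifferential.D L0 F)) := by
      rw [KaehlerDifferential.span_range_derivation]; trivial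
    have hle' : Submodule.span F (Set.range (KaehlerDifferential.D L0 F)) ≤ ⊥ := by
      rw [Submodule.span_le]
      rintro _ ⟨y, rfl⟩
      exact hD y
    exact (Submodule.mem_bot F).mp (hle' hz)
  have : Algebra.FormallyUnramified L0 F := ⟨hsub⟩
  have : Algebra.IsSeparable L0 F := Algebra.FormallyUnramified.isSeparable L0 F
  exact inferInstance

/-- In a field receiving `B`, together with scalars `c` killing the coordinates of
`∑ c_l dt_l`, everything is algebraic over `n` elements. -/
theorem algebraic_over_few {n m : ℕ} [Algebra.FiniteType k B]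
    (t : Fin n → B) (hspan : Submodule.span B (Set.range fun l => KaehlerDifferential.D k B (t l)) = ⊤)
    (lam : Fin m → (Ω[B⁄k] →ₗ[B] B)) (e : Fin m → Ω[B⁄k]) (he : ∀ ω, ω = ∑ s, lam s ω • e s)
    {K : Type u} [Field K] [Algebra k K] (φ : B →ₐ[k] K) (c : Fin n → K)
    (hc : ∀ s, ∑ l, c l * φ (lam s (KaehlerDifferential.D k B (t l))) = 0) :
    ∃ S : Fin n → K, (∀ b, IsAlgebraic (IntermediateField.adjoin k (Set.range S)) (φ b)) ∧
      ∀ l, IsAlgebraic (IntermediateField.adjoin k (Set.range S)) (c l) := by
  classical
  obtain ⟨G, hG⟩ := Algebra.FiniteType.out (R := k) (A := B)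
  let E : IntermediateField k K := IntermediateField.adjoin k (Set.range φ)
  have hφE : ∀ b, φ b ∈ E := fun b => IntermediateField.subset_adjoin _ _ ⟨b, rfl⟩
  have hEfg : E = IntermediateField.adjoin k (↑(G.image φ) : Set K) := by
    apply le_antisymm
    · rw [IntermediateField.adjoin_le_iff]
      rintro _ ⟨b, rfl⟩
      have : b ∈ Algebra.adjoin k (G : Set B) := by rw [hG]; trivial
      induction this using Algebra.adjoin_induction with
      | mem y hy => exact IntermediateField.subset_adjoin _ _ (Finset.mem_coe.mpr (Finset.mem_image_of_mem _ hy))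
      | algebraMap r => rw [AlgHom.commutes]; exact IntermediateField.algebraMap_mem _ r
      | add y z _ _ ihy ihz => rw [map_add]; exact add_mem ihy ihz
      | mul y z _ _ ihy ihz => rw [map_mul]; exact mul_mem ihy ihz
    · rw [IntermediateField.adjoin_le_iff]
      intro z hz
      obtain ⟨b, -, rfl⟩ := Finset.mem_image.mp (Finset.mem_coe.mp hz)
      exact hφE b
  have : Algebra.EssFiniteType k E :=
    IntermediateField.essFiniteType_iff.mpr ⟨_, hEfg.symm⟩
  let φE : B →ₐ[k] E := φ.codRestrict E.toSubalgebra hφE
  -- coordinates of the differentials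
  let v : Fin n → (Fin m → E) := fun l s => φE (lam s (KaehlerDifferential.D k B (t l)))
  obtain ⟨I, hI, hIspan, hIind⟩ : ∃ I : Set (Fin n), I ⊆ Set.univ ∧
      Submodule.span E (v '' I) = Submodule.span E (v '' Set.univ) ∧
      LinearIndepOn E v I := by
    obtain ⟨b, hb1, hb2, hb3, hb4⟩ := exists_linearIndepOn_extension (K := E) (v := v)
      (linearIndepOn_empty _ _) (Set.subset_univ _)
    exact ⟨b, hb1, le_antisymm (Submodule.span_mono (Set.image_mono hb1))
      (Submodule.span_le.mpr hb3), hb4⟩
  let S : Fin n → K := fun l => if l ∈ I then φ (t l) else c l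
  refine ⟨S, ?_⟩
  let L := IntermediateField.adjoin k (Set.range S)
  have hSL : ∀ l, S l ∈ L := fun l => IntermediateField.subset_adjoin _ _ ⟨l, rfl⟩
  -- `E` is algebraic over the field generated by the chosen coordinates
  let L0 : IntermediateField k E := IntermediateField.adjoin k ((fun l => φE (t l)) '' I)
  have halgE : Algebra.IsAlgebraic L0 E := by
    let : Algebra B E := φE.toRingHom.toAlgebra
    have : IsScalarTower k B E := .of_algebraMap_eq fun r => (φE.commutes r).symm
    refine isAlgebraic_of_coord_span t hspan lam e he (F := E) ?_ I fun l => ?_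
    · apply IntermediateField.lift_injective
      rw [IntermediateField.lift_adjoin, IntermediateField.lift_top, ← Set.range_comp]
      rfl
    · change v l ∈ Submodule.span E (v '' I)
      rw [hIspan]
      exact Submodule.subset_span ⟨l, Set.mem_univ _, rfl⟩
  have hL0L : L0.map E.val ≤ L := by
    rw [IntermediateField.adjoin_map, IntermediateField.adjoin_le_iff]
    rintro _ ⟨_, ⟨i, hi, rfl⟩, rfl⟩
    change φ (t i) ∈ L
    have := hSL i
    simp only [S, if_pos hi] at this
    exact this
  have hE : ∀ y : E, IsAlgebraic L (y : K) := by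
    intro y
    obtain ⟨p, hp0, hp⟩ := halgE.isAlgebraic y
    let f : L0 →+* L :=
      ((E.val.toRingHom.comp (algebraMap L0 E)).codRestrict L fun z => hL0L ⟨z, z.2, rfl⟩)
    refine ⟨p.map f, (Polynomial.map_ne_zero_iff f.injective).mpr hp0, ?_⟩
    rw [Polynomial.aeval_def, Polynomial.eval₂_map]
    have hcomp : (algebraMap L K).comp f = (E.val.toRingHom).comp (algebraMap L0 E) := rfl
    rw [hcomp]
    have h2 := Polynomial.hom_eval₂ p (algebraMap L0 E) (E.val : E →+* K) y
    rw [← Polynomial.aeval_def, hp, map_zero] at h2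
    exact h2.symm
  refine ⟨fun b => hE (φE b), fun l => ?_⟩
  let Cl := algebraicClosure L K
  have hmem : ∀ y, y ∈ Cl ↔ IsAlgebraic L y := fun y => mem_algebraicClosure_iff
  rw [← hmem]
  by_cases hl : l ∈ I
  · -- functional dual to `v l`
    obtain ⟨r, hr⟩ : ∃ r : Fin m → E, ∀ i, i ∈ I → ∑ s, v i s * r s = if i = l then 1 else 0 := by
      obtain ⟨χ, hχ⟩ : ∃ χ : (Fin m → E) →ₗ[E] E, ∀ i, i ∈ I → χ (v i) = if i = l then 1 else 0 := by
        have hli : LinearIndependent E (fun i : I => v i) := hIind
        let w : (Submodule.span E (Set.range fun i : I => v i)) →ₗ[E] E :=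
          (Finsupp.lapply (⟨l, hl⟩ : I)) ∘ₗ hli.repr
        obtain ⟨χ, hχ⟩ := w.exists_extend
        refine ⟨χ, fun i hi => ?_⟩
        have h1 : χ (v i) = w ⟨v i, Submodule.subset_span ⟨⟨i, hi⟩, rfl⟩⟩ := by
          rw [← hχ]; rfl
        rw [h1]
        simp only [w, LinearMap.comp_apply, Finsupp.lapply_apply]
        rw [hli.repr_eq_single (⟨i, hi⟩ : I) ⟨v i, Submodule.subset_span ⟨⟨i, hi⟩, rfl⟩⟩ rfl,
          Finsupp.single_apply]
        simp [Subtype.ext_iff]
      refine ⟨fun s => χ (Pi.single s 1), fun i hi => ?_⟩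
      rw [← hχ i hi]
      conv_rhs => rw [← Finset.univ_sum_single (v i), map_sum]
      refine Finset.sum_congr rfl fun s _ => ?_
      rw [← smul_eq_mul, ← map_smul, ← Pi.single_smul, smul_eq_mul, mul_one]
    have hsum : ∑ l', c l' * ((∑ s, v l' s * r s : E) : K) = 0 := by
      have h1 : ∀ l', ((∑ s, v l' s * r s : E) : K) =
          ∑ s, φ (lam s (KaehlerDifferential.D k B (t l'))) * (r s : K) := fun l' => by
        push_cast
        rfl
      simp only [h1, Finset.mul_sum]
      rw [Finset.sum_comm]
      refine Finset.sum_eq_zero fun s _ => ?_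
      calc (∑ l', c l' * (φ (lam s (KaehlerDifferential.D k B (t l'))) * (r s : K)))
          = (∑ l', c l' * φ (lam s (KaehlerDifferential.D k B (t l')))) * (r s : K) := by
            rw [Finset.sum_mul]; simp only [mul_assoc]
        _ = 0 := by rw [hc s, zero_mul]
    rw [Finset.sum_eq_add_sum_sdiff_singleton_of_mem (Finset.mem_univ l), hr l hl, if_pos rfl,
      OneMemClass.coe_one, mul_one] at hsum
    rw [eq_neg_of_add_eq_zero_left hsum]
    refine neg_mem (sum_mem fun l' hl' => ?_)
    have hne : l' ≠ l := by simpa using hl'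
    by_cases hl'I : l' ∈ I
    · rw [hr l' hl'I, if_neg hne, ZeroMemClass.coe_zero, mul_zero]
      exact zero_mem _
    · refine mul_mem ?_ ((hmem _).mpr (hE _))
      have := hSL l'
      simp only [S, if_neg hl'I] at this
      exact (hmem _).mpr (isAlgebraic_algebraMap (⟨c l', this⟩ : L))
  · have := hSL l
    simp only [S, if_neg hl] at this
    exact (hmem _).mpr (isAlgebraic_algebraMap (⟨c l, this⟩ : L))

/-- Evaluation of the linear combination of the generators. -/
noncomputable def lin {n : ℕ} (t : Fin n → B) (c : Fin n → k) : B := ∑ l, c l • t l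

/-- For general coefficients, the critical points of `∑ c_l t_l` form a finite set of closed
points. -/
theorem exists_open_finite_critical {n : ℕ} [Algebra.FiniteType k B] [Module.Projective B Ω[B⁄k]]
    (t : Fin n → B) (hspan : Submodule.span B (Set.range fun l => KaehlerDifferential.D k B (t l)) = ⊤) :
    ∃ h : MvPolynomial (Fin n) k, h ≠ 0 ∧ ∀ c : Fin n → k, MvPolynomial.eval c h ≠ 0 →
      ∃ I : Ideal B, Module.Finite k (B ⧸ I) ∧ ∀ p : PrimeSpectrum B,
        (∀ f : Ω[B⁄k] →ₗ[B] B, f (KaehlerDifferential.D k B (lin t c)) ∈ p.asIdeal) →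
          I ≤ p.asIdeal := by
  classical
  have : Module.Finite B Ω[B⁄k] := inferInstance
  obtain ⟨m, f, g, hf, hg, hfg⟩ := Module.Finite.exists_comp_eq_id_of_projective B Ω[B⁄k]
  let lam : Fin m → (Ω[B⁄k] →ₗ[B] B) := fun s => LinearMap.proj s ∘ₗ g
  let e : Fin m → Ω[B⁄k] := fun s => f (Pi.single s 1)
  have he : ∀ ω, ω = ∑ s, lam s ω • e s := by
    intro ω
    conv_lhs => rw [← LinearMap.id_apply (R := B) ω, ← hfg, LinearMap.comp_apply,
      ← Finset.univ_sum_single (g ω), map_sum]
    refine Finset.sum_congr rfl fun s _ => ?_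
    change f (Pi.single s (g ω s)) = g ω s • f (Pi.single s 1)
    rw [← map_smul, ← Pi.single_smul, smul_eq_mul, mul_one]
  let gen : Fin m → (MvPolynomial (Fin n) B) := fun s =>
    ∑ l, MvPolynomial.X l * MvPolynomial.C (lam s (KaehlerDifferential.D k B (t l)))
  let J : Ideal (MvPolynomial (Fin n) B) := Ideal.span (Set.range gen)
  let ev : B → (MvPolynomial (Option (Fin n)) k →ₐ[k] (MvPolynomial (Fin n) B)) := fun b =>
    MvPolynomial.aeval fun o => o.elim (MvPolynomial.C b) MvPolynomial.X
  have key : ∀ b, ∃ p, p ≠ 0 ∧ ev b p ∈ J := by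
    intro b
    by_contra hno
    push Not at hno
    let M : Submonoid (MvPolynomial (Fin n) B) := Submonoid.map (ev b).toRingHom (nonZeroDivisors (MvPolynomial (Option (Fin n)) k))
    have hdisj : Disjoint (J : Set (MvPolynomial (Fin n) B)) (M : Set (MvPolynomial (Fin n) B)) := by
      rw [Set.disjoint_left]
      rintro z hz ⟨p, hp, rfl⟩
      exact hno p (nonZeroDivisors.ne_zero hp) hz
    obtain ⟨q, hq, hJq, hqM⟩ := Ideal.exists_le_prime_disjoint J M hdisj
    let K := q.ResidueField
    let π : (MvPolynomial (Fin n) B) →ₐ[k] K := IsScalarTower.toAlgHom k (MvPolynomial (Fin n) B) K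
    have hπ : ∀ z ∈ J, π z = 0 := fun z hz => Ideal.algebraMap_residueField_eq_zero.mpr (hJq hz)
    let φ : B →ₐ[k] K := π.comp (IsScalarTower.toAlgHom k B (MvPolynomial (Fin n) B))
    let c : Fin n → K := fun l => π (MvPolynomial.X l)
    have hc : ∀ s, ∑ l, c l * φ (lam s (KaehlerDifferential.D k B (t l))) = 0 := by
      intro s
      have := hπ (gen s) (Ideal.subset_span ⟨s, rfl⟩)
      rw [map_sum] at this
      simpa [c, φ, map_mul, MvPolynomial.algebraMap_eq] using this
    obtain ⟨S, hS1, hS2⟩ := algebraic_over_few t hspan lam e he φ c hc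
    refine not_algIndep_option (k := k) (fun o => o.elim (φ b) c) ?_ S ?_
    · rw [algebraicIndependent_iff_injective_aeval, injective_iff_map_eq_zero]
      intro p hp
      have hcomp : (MvPolynomial.aeval fun o => o.elim (φ b) c : MvPolynomial (Option (Fin n)) k →ₐ[k] K) =
          π.comp (ev b) := by
        apply MvPolynomial.algHom_ext
        rintro (_ | l) <;> simp [ev, c, φ, MvPolynomial.algebraMap_eq]
      rw [hcomp, AlgHom.comp_apply] at hp
      by_contra hp0
      exact Set.disjoint_left.mp hqM (Ideal.algebraMap_residueField_eq_zero.mp hp)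
        ⟨p, mem_nonZeroDivisors_of_ne_zero hp0, rfl⟩
    · rintro (_ | l)
      · exact hS1 b
      · exact hS2 l
  choose p hp0 hpJ using key
  obtain ⟨G, hG⟩ := Algebra.FiniteType.out (R := k) (A := B)
  let lc : B → MvPolynomial (Fin n) k := fun b =>
    (MvPolynomial.optionEquivLeft k (Fin n) (p b)).leadingCoeff
  refine ⟨∏ b ∈ G, lc b, Finset.prod_ne_zero_iff.mpr fun b _ => ?_, fun c hcne => ?_⟩
  · rw [Ne, Polynomial.leadingCoeff_eq_zero, EmbeddingLike.map_eq_zero_iff]
    exact hp0 b
  rw [map_prod, Finset.prod_ne_zero_iff] at hcne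
  let evc : (MvPolynomial (Fin n) B) →ₐ[B] B := MvPolynomial.aeval fun l => algebraMap k B (c l)
  let I : Ideal B := J.map evc.toRingHom
  refine ⟨I, ?_, fun q hq => ?_⟩
  · have hint : ∀ b ∈ G, IsIntegral k (Ideal.Quotient.mkₐ k I b) := by
      intro b hb
      apply IsAlgebraic.isIntegral
      refine ⟨(MvPolynomial.optionEquivLeft k (Fin n) (p b)).map (MvPolynomial.eval c), ?_, ?_⟩
      · intro h0
        apply hcne b hb
        have := congrArg (fun P => Polynomial.coeff P (MvPolynomial.optionEquivLeft k (Fin n) (p b)).natDegree) h0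
        simpa [lc, Polynomial.coeff_map, Polynomial.leadingCoeff] using this
      · have hmap : ∀ P : MvPolynomial (Option (Fin n)) k,
            Polynomial.aeval (Ideal.Quotient.mkₐ k I b)
              ((MvPolynomial.optionEquivLeft k (Fin n) P).map (MvPolynomial.eval c)) =
            Ideal.Quotient.mkₐ k I (evc (ev b P)) := by
          intro P
          induction P using MvPolynomial.induction_on with
          | C a => simp [ev, evc, MvPolynomial.algebraMap_eq, IsScalarTower.algebraMap_apply k B (MvPolynomial (Fin n) B)]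
          | add P Q hP hQ => simp only [map_add, Polynomial.map_add, hP, hQ]
          | mul_X P o hP =>
            simp only [map_mul, Polynomial.map_mul, hP]
            congr 1
            cases o <;> simp [ev, evc, MvPolynomial.algebraMap_eq]
        rw [hmap]
        exact Ideal.Quotient.eq_zero_iff_mem.mpr (Ideal.mem_map_of_mem _ (hpJ b))
    have htop : Algebra.adjoin k ((Ideal.Quotient.mkₐ k I) '' (G : Set B)) = ⊤ := by
      rw [← AlgHom.map_adjoin, hG, Algebra.map_top, AlgHom.range_eq_top]
      exact Ideal.Quotient.mkₐ_surjective k I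
    have hfg := fg_adjoin_of_finite (R := k) (G.finite_toSet.image (Ideal.Quotient.mkₐ k I))
      (fun x hx => by obtain ⟨b, hb, rfl⟩ := hx; exact hint b hb)
    rw [htop, Algebra.top_toSubmodule] at hfg
    exact ⟨hfg⟩
  · rw [Ideal.map_le_iff_le_comap, Ideal.span_le]
    rintro _ ⟨s, rfl⟩
    change evc (gen s) ∈ q.asIdeal
    have : evc (gen s) = lam s (KaehlerDifferential.D k B (lin t c)) := by
      simp only [gen, evc, map_sum, map_mul, MvPolynomial.aeval_X, MvPolynomial.aeval_C, lin,
        Algebra.algebraMap_self, RingHom.id_apply]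
      refine Finset.sum_congr rfl fun l _ => ?_
      rw [Derivation.map_smul, LinearMap.map_smul_of_tower, Algebra.smul_def]
    rw [this]
    exact hq _

/-- If every coordinate of every `dt_l` vanishes at `p`, then `p` is isolated. -/
theorem exists_unramified_away_of_critical {n : ℕ} [Algebra.FiniteType k B]
    [Module.Projective B Ω[B⁄k]] (t : Fin n → B)
    (hspan : Submodule.span B (Set.range fun l => KaehlerDifferential.D k B (t l)) = ⊤)
    (p : PrimeSpectrum B)
    (hp : ∀ (f : Ω[B⁄k] →ₗ[B] B) l, f (KaehlerDifferential.D k B (t l)) ∈ p.asIdeal) :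
    IsOpen ({p} : Set (PrimeSpectrum B)) := by
  classical
  obtain ⟨m, f, g, hf, hg, hfg⟩ := Module.Finite.exists_comp_eq_id_of_projective B Ω[B⁄k]
  have hsmul : (⊤ : Submodule B Ω[B⁄k]) ≤ p.asIdeal • ⊤ := by
    intro ω _
    rw [← LinearMap.id_apply (R := B) ω, ← hfg, LinearMap.comp_apply,
      ← Finset.univ_sum_single (g ω), map_sum]
    refine Submodule.sum_mem _ fun s _ => ?_
    have hmem : g ω s ∈ p.asIdeal := by
      have hω : ω ∈ Submodule.span B (Set.range fun l => KaehlerDifferential.D k B (t l)) := by
        rw [hspan]; trivial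
      have hle : Submodule.span B (Set.range fun l => KaehlerDifferential.D k B (t l)) ≤
          Submodule.comap (LinearMap.proj s ∘ₗ g) p.asIdeal := by
        rw [Submodule.span_le]
        rintro _ ⟨l, rfl⟩
        exact hp (LinearMap.proj s ∘ₗ g) l
      exact hle hω
    have : f (Pi.single s (g ω s)) = g ω s • f (Pi.single s 1) := by
      rw [← map_smul, ← Pi.single_smul, smul_eq_mul, mul_one]
    rw [this]
    exact Submodule.smul_mem_smul hmem Submodule.mem_top
  obtain ⟨r, hr1, hr2⟩ := Submodule.exists_sub_one_mem_and_smul_eq_zero_of_fg_of_le_smul p.asIdeal ⊤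
    Module.Finite.fg_top hsmul
  have hrp : r ∉ p.asIdeal := fun h => p.isPrime.ne_top
    ((Ideal.eq_top_iff_one _).mpr (by simpa using Ideal.sub_mem _ h hr1))
  let Br := Localization.Away r
  have : Subsingleton (LocalizedModule (Submonoid.powers r) Ω[B⁄k]) := by
    rw [LocalizedModule.subsingleton_iff]
    exact fun ω => ⟨r, Submonoid.mem_powers r, hr2 ω Submodule.mem_top⟩
  have : Subsingleton Ω[Br⁄k] := by
    exact (IsLocalizedModule.iso (Submonoid.powers r)
      (KaehlerDifferential.map k k B Br)).toEquiv.symm.subsingleton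
  have : Algebra.FormallyUnramified k Br := ⟨this⟩
  have : Algebra.FiniteType k Br := Algebra.FiniteType.trans (S := B) inferInstance inferInstance
  have : Module.Finite k Br := Algebra.FormallyUnramified.finite_of_free (R := k) (S := Br)
  have : IsArtinianRing Br := IsArtinianRing.of_finite k Br
  have hemb := PrimeSpectrum.localization_away_isOpenEmbedding Br r
  have hmem : p ∈ Set.range (PrimeSpectrum.comap (algebraMap B Br)) := by
    rw [PrimeSpectrum.localization_away_comap_range Br r]
    exact hrp
  obtain ⟨p', rfl⟩ := hmem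
  have : DiscreteTopology (PrimeSpectrum Br) := inferInstance
  rw [← Set.image_singleton]
  exact hemb.isOpenMap _ (isOpen_discrete _)

/-- A function with nowhere vanishing differential gives a smooth map to the multiplicative line. -/
theorem smooth_of_unit_differential [Algebra.Smooth k B] (ψ : LaurentPolynomial k →ₐ[k] B)
    (f : Ω[B⁄k] →ₗ[B] B)
    (hf : IsUnit (f (KaehlerDifferential.D k B (ψ (LaurentPolynomial.T 1))))) :
    ψ.toRingHom.Smooth := by
  let : Algebra (LaurentPolynomial k) B := ψ.toRingHom.toAlgebra
  have : IsScalarTower k (LaurentPolynomial k) B := .of_algebraMap_eq fun r => (ψ.commutes r).symm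
  let T : (LaurentPolynomial k) := LaurentPolynomial.T 1
  have hT : IsUnit T := LaurentPolynomial.isUnit_T 1
  have hspanP : ∀ ω : Ω[(LaurentPolynomial k)⁄k], ω ∈ Submodule.span (LaurentPolynomial k) {KaehlerDifferential.D k (LaurentPolynomial k) T} := by
    intro ω
    have hω : ω ∈ Submodule.span (LaurentPolynomial k) (Set.range (KaehlerDifferential.D k (LaurentPolynomial k))) := by
      rw [KaehlerDifferential.span_range_derivation]; trivial
    refine (Submodule.span_le.mpr ?_) hω
    rintro _ ⟨y, rfl⟩
    obtain ⟨N, y', hy'⟩ : ∃ (N : ℕ) (y' : Polynomial k), Polynomial.toLaurent y' = y * LaurentPolynomial.T N :=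
      LaurentPolynomial.exists_T_pow y
    have hpol : ∀ z : Polynomial k, KaehlerDifferential.D k (LaurentPolynomial k) (Polynomial.toLaurent z) ∈
        Submodule.span (LaurentPolynomial k) {KaehlerDifferential.D k (LaurentPolynomial k) T} := by
      intro z
      have : Polynomial.toLaurent z = Polynomial.aeval T z := by
        induction z using Polynomial.induction_on' with
        | add a b ha hb => simp [ha, hb]
        | monomial j a => simp [T, ← Polynomial.C_mul_X_pow_eq_monomial, LaurentPolynomial.T_pow, ← LaurentPolynomial.C_eq_algebraMap]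
      rw [this, Derivation.map_aeval]
      exact Submodule.smul_mem _ _ (Submodule.mem_span_singleton_self _)
    have h1 := hpol y'
    have hTN : (LaurentPolynomial.T (N : ℤ) : (LaurentPolynomial k)) = Polynomial.toLaurent (Polynomial.X ^ N) := by simp
    have h2 := hpol (Polynomial.X ^ N)
    rw [← hTN] at h2
    rw [hy', Derivation.leibniz] at h1
    have h3 := Submodule.smul_mem (Submodule.span (LaurentPolynomial k) {KaehlerDifferential.D k (LaurentPolynomial k) T})
      (LaurentPolynomial.T (-(N : ℤ)))
      (Submodule.sub_mem _ h1 (Submodule.smul_mem _ y h2))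
    rwa [add_sub_cancel_left, smul_smul, ← LaurentPolynomial.T_add, neg_add_cancel,
      LaurentPolynomial.T_zero, one_smul] at h3
  obtain ⟨w, hw⟩ := hf
  let f' : Ω[B⁄k] →ₗ[B] B ⊗[(LaurentPolynomial k)] Ω[(LaurentPolynomial k)⁄k] :=
    (LinearMap.toSpanSingleton B _ ((1 : B) ⊗ₜ[(LaurentPolynomial k)] KaehlerDifferential.D k (LaurentPolynomial k) T)) ∘ₗ ((↑w⁻¹ : B) • f)
  have hinv : f' ∘ₗ KaehlerDifferential.mapBaseChange k (LaurentPolynomial k) B = LinearMap.id := by
    apply LinearMap.ext
    intro z
    induction z with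
    | zero => simp
    | add a b ha hb =>
      simp only [LinearMap.comp_apply, map_add, LinearMap.id_apply] at ha hb ⊢
      rw [ha, hb]
    | tmul b ω =>
      obtain ⟨y, rfl⟩ := Submodule.mem_span_singleton.mp (hspanP ω)
      have h1 : b ⊗ₜ[(LaurentPolynomial k)] (y • KaehlerDifferential.D k (LaurentPolynomial k) T) =
          (b * algebraMap (LaurentPolynomial k) B y) • ((1 : B) ⊗ₜ[(LaurentPolynomial k)] KaehlerDifferential.D k (LaurentPolynomial k) T) := by
        rw [TensorProduct.smul_tmul', smul_eq_mul, mul_one, TensorProduct.tmul_smul,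
          TensorProduct.smul_tmul', Algebra.smul_def, mul_comm]
      rw [LinearMap.id_apply, LinearMap.comp_apply, h1, map_smul, map_smul]
      congr 1
      rw [KaehlerDifferential.mapBaseChange_tmul, one_smul, KaehlerDifferential.map_D]
      simp only [f', LinearMap.comp_apply, LinearMap.smul_apply, LinearMap.toSpanSingleton_apply]
      change ((↑w⁻¹ : B) * f (KaehlerDifferential.D k B (ψ T))) • _ = _
      rw [← hw, Units.inv_mul, one_smul]
  have hinj : Function.Injective (KaehlerDifferential.mapBaseChange k (LaurentPolynomial k) B) :=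
    Function.LeftInverse.injective (g := f') fun z => LinearMap.congr_fun hinv z
  have hH1 : Subsingleton (Algebra.H1Cotangent (LaurentPolynomial k) B) := by
    refine subsingleton_of_forall_eq 0 fun z => ?_
    have hz : Algebra.H1Cotangent.δ k (LaurentPolynomial k) B z = 0 := by
      apply hinj
      rw [(Algebra.H1Cotangent.exact_δ_mapBaseChange k (LaurentPolynomial k) B).apply_apply_eq_zero, map_zero]
    obtain ⟨w', rfl⟩ := (Algebra.H1Cotangent.exact_map_δ k (LaurentPolynomial k) B z).mp hz
    rw [Subsingleton.elim w' 0, map_zero]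
  have hproj : Module.Projective B Ω[B⁄(LaurentPolynomial k)] := by
    let π := KaehlerDifferential.map k (LaurentPolynomial k) B B
    let pr : Ω[B⁄k] →ₗ[B] Ω[B⁄k] := LinearMap.id - KaehlerDifferential.mapBaseChange k (LaurentPolynomial k) B ∘ₗ f'
    have hker : LinearMap.ker π ≤ LinearMap.ker pr := by
      intro z hz
      obtain ⟨y, rfl⟩ := (KaehlerDifferential.exact_mapBaseChange_map k (LaurentPolynomial k) B z).mp hz
      have := LinearMap.congr_fun hinv y
      simp only [LinearMap.comp_apply, LinearMap.id_apply] at this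
      simp [pr, this]
    have hsurj : Function.Surjective π := KaehlerDifferential.map_surjective k (LaurentPolynomial k) B
    let sec : Ω[B⁄(LaurentPolynomial k)] →ₗ[B] Ω[B⁄k] :=
      (Submodule.liftQ _ pr hker) ∘ₗ (LinearMap.quotKerEquivOfSurjective π hsurj).symm.toLinearMap
    refine Module.Projective.of_split sec π (LinearMap.ext fun z => ?_)
    obtain ⟨y, rfl⟩ := hsurj z
    have : (LinearMap.quotKerEquivOfSurjective π hsurj).symm (π y) = Submodule.Quotient.mk y := by
      rw [LinearEquiv.symm_apply_eq]; rfl
    simp only [sec, LinearMap.comp_apply, LinearEquiv.coe_coe, this, Submodule.liftQ_apply,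
      LinearMap.id_apply, pr, LinearMap.sub_apply, map_sub]
    rw [(KaehlerDifferential.exact_mapBaseChange_map k (LaurentPolynomial k) B).apply_apply_eq_zero, sub_zero]
  have : Algebra.FormallySmooth (LaurentPolynomial k) B := ⟨hproj, hH1⟩
  have : Algebra.FinitePresentation k (LaurentPolynomial k) :=
    Algebra.FinitePresentation.of_finiteType.mp inferInstance
  have : Algebra.FinitePresentation (LaurentPolynomial k) B :=
    Algebra.FinitePresentation.of_restrict_scalars_finitePresentation k (LaurentPolynomial k) B
  have : Algebra.Smooth (LaurentPolynomial k) B := ⟨inferInstance, inferInstance⟩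
  exact RingHom.smooth_algebraMap.mpr this

end UnitSmoothLib
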