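import Mathlib

set_option autoImplicit false
universe u
open scoped TensorProduct
open IsLocalRing KaehlerDifferential

namespace Groth.Agent.UnitSmoothLib

variable {R A : Type u} [CommRing R] [CommRing A] [Algebra R A]

/-- retraction of `I → J/(IJ)` killing `I²` -/
theorem exists_retraction (I J : Ideal A) (hJI : J ≤ I) (h2 : J ⊓ I ^ 2 = I * J)
    [Module.Projective R (↥I ⧸ Submodule.comap I.subtype (J ⊔ I ^ 2))] :
    ∃ ρ : (I.restrictScalars R) →ₗ[R]
        ↥(J.restrictScalars R) ⧸ Submodule.comap (J.restrictScalars R).subtype ((I * J).restrictScalars R),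
      (∀ (j : A) (hj : j ∈ J), ρ ⟨j, hJI hj⟩ = Submodule.Quotient.mk ⟨j, hj⟩) ∧
      ∀ (w : A) (hw : w ∈ I ^ 2), ρ ⟨w, Ideal.pow_le_self two_ne_zero hw⟩ = 0 := by
  classical
  let T : Submodule A ↥I := Submodule.comap I.subtype (J ⊔ I ^ 2)
  let q : (I.restrictScalars R) →ₗ[R] (↥I ⧸ T) :=
    { toFun := fun x => Submodule.Quotient.mk (⟨x.1, x.2⟩ : I)
      map_add' := fun _ _ => rfl
      map_smul' := fun _ _ => rfl }
  have hq : Function.Surjective q := fun y => by
    obtain ⟨x, rfl⟩ := Submodule.Quotient.mk_surjective _ y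
    exact ⟨⟨x.1, x.2⟩, rfl⟩
  obtain ⟨s, hs⟩ := Module.projective_lifting_property q LinearMap.id hq
  let Q := ↥(J.restrictScalars R) ⧸ Submodule.comap (J.restrictScalars R).subtype ((I * J).restrictScalars R)
  let W : Submodule R A := (J.restrictScalars R) ⊔ ((I ^ 2).restrictScalars R)
  let π : (I.restrictScalars R) →ₗ[R] A :=
    (I.restrictScalars R).subtype.comp (LinearMap.id - s.comp q)
  have hπ : ∀ x, π x ∈ W := fun x => by
    have h0 : q ((LinearMap.id - s.comp q : (I.restrictScalars R) →ₗ[R] (I.restrictScalars R)) x) = 0 := by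
      simp only [LinearMap.sub_apply, LinearMap.id_coe, id_eq, LinearMap.comp_apply, map_sub]
      rw [show q (s (q x)) = q x from LinearMap.congr_fun hs (q x), sub_self]
    have h1 := (Submodule.Quotient.mk_eq_zero T).mp h0
    rw [Submodule.mem_comap, Submodule.mem_sup] at h1
    obtain ⟨a, ha, b, hb, hab⟩ := h1
    exact Submodule.mem_sup.mpr ⟨a, ha, b, hb, hab⟩
  -- W → Q
  let σ : ((J.restrictScalars R) × ((I ^ 2).restrictScalars R)) →ₗ[R] A :=
    (J.restrictScalars R).subtype.coprod ((I ^ 2).restrictScalars R).subtype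
  have hσ : LinearMap.range σ = W := by
    rw [LinearMap.range_coprod, Submodule.range_subtype, Submodule.range_subtype]
  let mkQ' : ((J.restrictScalars R) × ((I ^ 2).restrictScalars R)) →ₗ[R] Q :=
    (Submodule.mkQ _).comp (LinearMap.fst R _ _)
  have hker : LinearMap.ker σ.rangeRestrict ≤ LinearMap.ker mkQ' := by
    intro z hz
    rw [LinearMap.ker_rangeRestrict, LinearMap.mem_ker] at hz
    rw [LinearMap.mem_ker]
    refine (Submodule.Quotient.mk_eq_zero _).mpr ?_
    change (z.1 : A) ∈ I * J
    rw [← h2]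
    refine ⟨z.1.2, ?_⟩
    have hz' : (z.1 : A) + (z.2 : A) = 0 := hz
    rw [eq_neg_of_add_eq_zero_left hz']
    exact neg_mem z.2.2
  let e := (Submodule.liftQ _ mkQ' hker).comp
    (σ.rangeRestrict.quotKerEquivOfSurjective σ.surjective_rangeRestrict).symm.toLinearMap
  have he : ∀ z, e (σ.rangeRestrict z) = mkQ' z := by
    intro z
    change Submodule.liftQ _ mkQ' hker ((σ.rangeRestrict.quotKerEquivOfSurjective _).symm (σ.rangeRestrict z)) = _
    rw [← σ.rangeRestrict.quotKerEquivOfSurjective_apply_mk σ.surjective_rangeRestrict z,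
      LinearEquiv.symm_apply_apply, Submodule.liftQ_apply]
  refine ⟨e.comp (LinearMap.codRestrict (LinearMap.range σ) π (fun x => hσ.symm ▸ hπ x)), ?_, ?_⟩
  · intro j hj
    have h0 : q ⟨j, hJI hj⟩ = 0 := (Submodule.Quotient.mk_eq_zero T).mpr (Submodule.mem_sup_left hj)
    have h1 : LinearMap.codRestrict (LinearMap.range σ) π (fun x => hσ.symm ▸ hπ x) ⟨j, hJI hj⟩ =
        σ.rangeRestrict (⟨j, hj⟩, 0) := by
      apply Subtype.ext
      simp [π, σ, h0]
    rw [LinearMap.comp_apply, h1, he]
    rfl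
  · intro w hw
    have h0 : q ⟨w, Ideal.pow_le_self two_ne_zero hw⟩ = 0 :=
      (Submodule.Quotient.mk_eq_zero T).mpr (Submodule.mem_sup_right hw)
    have h1 : LinearMap.codRestrict (LinearMap.range σ) π (fun x => hσ.symm ▸ hπ x)
        ⟨w, Ideal.pow_le_self two_ne_zero hw⟩ = σ.rangeRestrict (0, ⟨w, hw⟩) := by
      apply Subtype.ext
      simp [π, σ, h0]
    rw [LinearMap.comp_apply, h1, he]
    change Submodule.Quotient.mk (0 : ↥(J.restrictScalars R)) = 0
    rfl

theorem one_tmul_smul_eq_zero {L K N : Type*} [CommRing L] [CommRing K] [Algebra L K] [AddCommGroup N] [Module L N]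
    (c : L) (n : N) (h : algebraMap L K c = 0) : (1 : K) ⊗ₜ[L] (c • n) = 0 := by
  rw [← TensorProduct.smul_tmul, Algebra.smul_def, mul_one, h, TensorProduct.zero_tmul]

variable [Algebra.Smooth R A]

theorem formallySmooth_local (ε : A →ₐ[R] R) (J : Ideal A) (hJI : J ≤ RingHom.ker ε) (h1 : J.FG)
    (h2 : J ⊓ RingHom.ker ε ^ 2 = RingHom.ker ε * J)
    [Module.Projective R (↥(RingHom.ker ε) ⧸ Submodule.comap (RingHom.ker ε).subtype (J ⊔ RingHom.ker ε ^ 2))]
    (P₀ : Ideal A) [P₀.IsPrime] (L : Type u) [CommRing L] [Algebra A L] [IsLocalization.AtPrime L P₀]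
    [IsLocalRing L] [Algebra R L] [IsScalarTower R A L]
    (S : Type u) [CommRing S] [IsLocalRing S] [Algebra R S] [Algebra A S] [Algebra L S]
    [IsScalarTower R A S] [IsScalarTower A L S] [IsScalarTower R L S]
    (hsurj : Function.Surjective (algebraMap L S))
    (hker : RingHom.ker (algebraMap L S) = J.map (algebraMap A L))
    (hIS : ∀ a ∈ RingHom.ker ε, algebraMap A S a ∈ maximalIdeal S) :
    Algebra.FormallySmooth R S := by
  classical
  haveI : Algebra.FormallyEtale A L := Algebra.FormallyEtale.of_isLocalization P₀.primeCompl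
  haveI : Algebra.FormallySmooth R L := Algebra.FormallySmooth.comp R A L
  haveI : Algebra.EssFiniteType A L := Algebra.EssFiniteType.of_isLocalization L P₀.primeCompl
  haveI : Algebra.EssFiniteType R L := Algebra.EssFiniteType.comp R A L
  haveI : Module.Free L Ω[L⁄R] := Module.free_of_flat_of_isLocalRing
  rw [Algebra.FormallySmooth.iff_injective_cotangentComplexBaseChange_residueField L hsurj
    (hker ▸ h1.map _)]
  obtain ⟨ρ, hρJ, hρ2⟩ := exists_retraction (R := R) (RingHom.ker ε) J hJI h2
  set K := ResidueField S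
  have hAK : ∀ a : A, algebraMap A K a = algebraMap R K (ε a) := by
    intro a
    have hmem : a - algebraMap R A (ε a) ∈ RingHom.ker ε := by simp [RingHom.mem_ker]
    have h0 := (residue_eq_zero_iff _).mpr (hIS _ hmem)
    rw [map_sub, map_sub, sub_eq_zero] at h0
    rw [IsScalarTower.algebraMap_apply A S K, IsScalarTower.algebraMap_apply R S K,
      IsScalarTower.algebraMap_apply R A S]
    exact h0
  let Q := ↥(J.restrictScalars R) ⧸
    Submodule.comap (J.restrictScalars R).subtype ((RingHom.ker ε * J).restrictScalars R)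
  let d : A →ₗ[R] K ⊗[R] Q :=
    (TensorProduct.mk R K Q 1).comp (ρ.comp (LinearMap.codRestrict ((RingHom.ker ε).restrictScalars R)
      (LinearMap.id - (Algebra.linearMap R A).comp ε.toLinearMap) (fun a => by simp [RingHom.mem_ker])))
  have hAsmul : ∀ (a : A) (z : K ⊗[R] Q), a • z = ε a • z := fun a z => by
    rw [← algebraMap_smul K a z, hAK, algebraMap_smul]
  let D : Derivation R A (K ⊗[R] Q) := Derivation.mk' d (fun a b => by
    rw [hAsmul, hAsmul]
    simp only [d, LinearMap.comp_apply, TensorProduct.mk_apply, ← TensorProduct.tmul_smul, ← TensorProduct.tmul_add,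
      ← map_smul, ← map_add]
    congr 1
    rw [← sub_eq_zero, ← map_sub]
    have hw : (a - algebraMap R A (ε a)) * (b - algebraMap R A (ε b)) ∈ RingHom.ker ε ^ 2 := by
      rw [pow_two]
      exact Ideal.mul_mem_mul (by simp [RingHom.mem_ker]) (by simp [RingHom.mem_ker])
    refine Eq.trans (congrArg ρ (Subtype.ext ?_)) (hρ2 _ hw)
    simp [Algebra.smul_def]
    ring)
  let f : Ω[A⁄R] →ₗ[A] K ⊗[R] Q := D.liftKaehlerDifferential
  have hunits : ∀ c : P₀.primeCompl, IsUnit (algebraMap A (Module.End A (K ⊗[R] Q)) c) := by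
    intro c
    have hu : IsUnit (algebraMap A K c) := by
      rw [IsScalarTower.algebraMap_apply A L K]
      exact (IsLocalization.map_units L c).map _
    rw [Module.End.isUnit_iff]
    have : ⇑(algebraMap A (Module.End A (K ⊗[R] Q)) c) = fun z => (algebraMap A K c) • z := by
      funext z
      rw [Module.algebraMap_end_apply, algebraMap_smul]
    rw [this]
    exact hu.smul_bijective
  let g := IsLocalizedModule.lift P₀.primeCompl (KaehlerDifferential.map R R A L) f hunits
  let G : Ω[L⁄R] →ₗ[L] K ⊗[R] Q := g.extendScalarsOfIsLocalization P₀.primeCompl L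
  have hG : ∀ a : A, G (KaehlerDifferential.D R L (algebraMap A L a)) = d a := by
    intro a
    change g (KaehlerDifferential.D R L (algebraMap A L a)) = d a
    rw [← KaehlerDifferential.map_D R R A L a]
    change g (KaehlerDifferential.map R R A L (KaehlerDifferential.D R A a)) = d a
    rw [IsLocalizedModule.lift_apply]
    exact Derivation.liftKaehlerDifferential_comp_D D a
  let Gb : K ⊗[L] Ω[L⁄R] →ₗ[K] K ⊗[R] Q := LinearMap.liftBaseChange K G
  let θ : ↥(J.restrictScalars R) →ₗ[R] K ⊗[L] ↥(RingHom.ker (algebraMap L S)) :=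
    { toFun := fun j => (1 : K) ⊗ₜ[L] ⟨algebraMap A L j.1, hker.ge (Ideal.mem_map_of_mem _ j.2)⟩
      map_add' := fun x y => by
        rw [← TensorProduct.tmul_add]; congr 1; exact Subtype.ext (map_add _ _ _)
      map_smul' := fun c x => by
        rw [RingHom.id_apply, ← TensorProduct.tmul_smul]; congr 1
        exact Subtype.ext ((IsScalarTower.toAlgHom R A L).toLinearMap.map_smul c x.1) }
  have hθ : Submodule.comap (J.restrictScalars R).subtype ((RingHom.ker ε * J).restrictScalars R) ≤ LinearMap.ker θ := by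
    rintro ⟨x, hxJ⟩ hx
    rw [LinearMap.mem_ker]
    change x ∈ RingHom.ker ε * J at hx
    change (1 : K) ⊗ₜ[L] (⟨algebraMap A L x, hker.ge (Ideal.mem_map_of_mem _ hxJ)⟩ : RingHom.ker (algebraMap L S)) = 0
    revert hxJ
    induction hx using Submodule.mul_induction_on' with
    | mem_mul_mem a ha j hj =>
      intro hxJ
      rw [show (⟨algebraMap A L (a * j), hker.ge (Ideal.mem_map_of_mem _ hxJ)⟩ : RingHom.ker (algebraMap L S)) =
        algebraMap A L a • ⟨algebraMap A L j, hker.ge (Ideal.mem_map_of_mem _ hj)⟩ from Subtype.ext (map_mul _ _ _),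
        one_tmul_smul_eq_zero (algebraMap A L a) _ (by
          rw [← IsScalarTower.algebraMap_apply A L K, hAK, RingHom.mem_ker.mp ha, map_zero])]
    | add a ha b hb iha ihb =>
      intro hxJ
      have haJ : a ∈ J := (Ideal.mul_le_right : RingHom.ker ε * J ≤ J) ha
      have hbJ : b ∈ J := (Ideal.mul_le_right : RingHom.ker ε * J ≤ J) hb
      have e1 := iha haJ
      have e2 := ihb hbJ
      rw [show (⟨algebraMap A L (a + b), hker.ge (Ideal.mem_map_of_mem _ hxJ)⟩ : RingHom.ker (algebraMap L S)) =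
        ⟨algebraMap A L a, hker.ge (Ideal.mem_map_of_mem _ haJ)⟩ +
          ⟨algebraMap A L b, hker.ge (Ideal.mem_map_of_mem _ hbJ)⟩ from Subtype.ext (map_add _ _ _),
        TensorProduct.tmul_add, e1, e2, add_zero]
  let Θ : K ⊗[R] Q →ₗ[K] K ⊗[L] ↥(RingHom.ker (algebraMap L S)) :=
    LinearMap.liftBaseChange K (Submodule.liftQ _ θ hθ)
  let cc := KaehlerDifferential.cotangentComplexBaseChange R S L K
  refine Function.LeftInverse.injective (g := fun w => Θ (Gb w)) (fun z => ?_)
  induction z using TensorProduct.induction_on with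
  | zero => simp
  | add x y hx hy => simp only [map_add, hx, hy]
  | tmul c j =>
    obtain ⟨j, hj⟩ := j
    obtain ⟨⟨⟨a, ha⟩, ⟨s, hs⟩⟩, he⟩ := (IsLocalization.mem_map_algebraMap_iff P₀.primeCompl L).mp (hker.le hj)
    have hu : IsUnit (algebraMap A L s) := IsLocalization.map_units L (⟨s, hs⟩ : P₀.primeCompl)
    obtain ⟨u, hu'⟩ := hu.exists_left_inv
    have hj' : (⟨j, hj⟩ : RingHom.ker (algebraMap L S)) =
        u • ⟨algebraMap A L a, hker.ge (Ideal.mem_map_of_mem _ ha)⟩ := by
      apply Subtype.ext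
      change j = u * algebraMap A L a
      rw [← he, mul_left_comm, hu', mul_one]
    rw [hj', ← TensorProduct.smul_tmul, KaehlerDifferential.cotangentComplexBaseChange_tmul,
      KaehlerDifferential.kerToTensor_apply]
    change Θ (Gb ((u • c) • ((1 : K) ⊗ₜ[L] KaehlerDifferential.D R L (algebraMap A L a)))) = _
    rw [map_smul, map_smul, LinearMap.liftBaseChange_tmul, one_smul, hG]
    have hda : d a = (1 : K) ⊗ₜ[R] (Submodule.Quotient.mk ⟨a, ha⟩ : Q) := by
      simp only [d, LinearMap.comp_apply, TensorProduct.mk_apply]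
      congr 1
      rw [← hρJ a ha]
      congr 1
      apply Subtype.ext
      simp [RingHom.mem_ker.mp (hJI ha)]
    rw [hda, LinearMap.liftBaseChange_tmul, one_smul, Submodule.liftQ_apply]
    change (u • c) • ((1 : K) ⊗ₜ[L] _) = _
    rw [TensorProduct.smul_tmul', smul_eq_mul, mul_one]

end Groth.Agent.UnitSmoothLib
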